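import Cfsg.Agent.CosetCert.SuzG24.CheckRels0

/-! Generated: kernel checks combined. -/

namespace Cfsg.Agent.CosetCert.SuzG24

theorem rels_ok : ∀ i, i < 1782 → data.checkRels i = true := by
  have h0 : ∀ i, i < 0 → data.checkRels i = true := forall_lt_zero
  have h1 := forall_lt_step (b := 500) h0 rels_okAt0 rfl
  have h2 := forall_lt_step (b := 1000) h1 rels_okAt500 rfl
  have h3 := forall_lt_step (b := 1500) h2 rels_okAt1000 rfl
  have h4 := forall_lt_step (b := 1782) h3 rels_okAt1500 rfl
  exact h4

end Cfsg.Agent.CosetCert.SuzG24
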