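import Cfsg.Agent.CosetCert.SuzG24.CheckLog
import Cfsg.Agent.CosetCert.SuzG24.CheckTable
import Cfsg.Agent.CosetCert.SuzG24.CheckRels
import Cfsg.Agent.CosetCert.SuzG24.Orbit0Data
import Cfsg.Agent.CosetCert.SuzG24.Orbit1Data

/-! Generated: the index and the suborbits. -/

namespace Cfsg.Agent.CosetCert.SuzG24

theorem valid : data.Valid where
  n_pos := by decide +kernel
  root := by decide +kernel
  log := log_ok
  coset := coset_ok
  rels := rels_ok
  powers_eq := by decide +kernel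
  pw := by decide +kernel
  letters := by decide +kernel
  K_small := by decide +kernel
  nR_le := by decide +kernel
  subs := by decide +kernel
  iv_iv := fun x hx => ⟨rfl, hx⟩
  iv_big := fun _ _ => rfl

theorem spells : Data.Spells data (Cfsg.Spor.coxRelators Cfsg.Spor.Suz.edges ∪ {r | r ∈ Cfsg.Spor.Suz.extra})
    subGens enc dec (coxWords genList Cfsg.Spor.Suz.edges Cfsg.Spor.Suz.extra) := by
  apply spells_cox data genList
  · intro z; cases z <;> decide
  · intro z; cases z <;> exact ⟨by decide +kernel, by decide +kernel, rfl⟩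
  · show ∀ x, x < 7 → _
    intro x hx
    interval_cases x <;> exact ⟨by decide +kernel, by decide +kernel, rfl⟩
  · intro z; cases z <;> decide
  · decide +kernel
  · decide +kernel

theorem index_val : (Data.sub (Cfsg.Spor.coxRelators Cfsg.Spor.Suz.edges ∪ {r | r ∈ Cfsg.Spor.Suz.extra})
    subGens).index = 1782 :=
  Data.index_eq valid spells

theorem suborbit0 : ∃ q : Cfsg.Spor.Suz ⧸ Data.sub (Cfsg.Spor.coxRelators Cfsg.Spor.Suz.edges ∪ {r | r ∈ Cfsg.Spor.Suz.extra}) subGens,
    (MulAction.orbit (Data.sub (Cfsg.Spor.coxRelators Cfsg.Spor.Suz.edges ∪ {r | r ∈ Cfsg.Spor.Suz.extra}) subGens) q).ncard = 416 := by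
  obtain ⟨q, hq⟩ := Data.exists_orbit valid spells orbSet0 47 (get48 orbStore0) orb0_root orb0_ok
  exact ⟨q, hq.trans orb0_count⟩

theorem suborbit1 : ∃ q : Cfsg.Spor.Suz ⧸ Data.sub (Cfsg.Spor.coxRelators Cfsg.Spor.Suz.edges ∪ {r | r ∈ Cfsg.Spor.Suz.extra}) subGens,
    (MulAction.orbit (Data.sub (Cfsg.Spor.coxRelators Cfsg.Spor.Suz.edges ∪ {r | r ∈ Cfsg.Spor.Suz.extra}) subGens) q).ncard = 1365 := by
  obtain ⟨q, hq⟩ := Data.exists_orbit valid spells orbSet1 1 (get48 orbStore1) orb1_root orb1_ok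
  exact ⟨q, hq.trans orb1_count⟩

end Cfsg.Agent.CosetCert.SuzG24
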